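import Groth.Prelude.Def_Fitting
import Groth.Prelude.Def_Mor2
import Groth.Agent.FittIdeal.Basic
import Groth.Agent.HopfFF.FitProj
import Groth.Agent.IdealComap.Basic
import Groth.Agent.S6890
import Groth.Agent.S6891
import Groth.Agent.S6892
import Mathlib

/-!
Fitting ideal sheaves of finite morphisms and the criterion for being finite locally free of
given degree.
-/

set_option autoImplicit false
universe u

open CategoryTheory CategoryTheory.Limits AlgebraicGeometry TensorProduct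

namespace Groth.Agent.FittMor

/-! ### Rings -/

section Ring

variable {A B A' B' : Type u} [CommRing A] [CommRing B] [CommRing A'] [CommRing B']

/-- The Fitting ideal of `B` viewed as an `A`-module along `φ`. -/
noncomputable def fittAt (φ : A →+* B) (r : ℕ) : Ideal A :=
  letI := φ.toAlgebra
  Fitt.ideal A B r

theorem ideal_congr {M N : Type u} [AddCommGroup M] [Module A M] [AddCommGroup N] [Module A N]
    [Module.Finite A M] (e : M ≃ₗ[A] N) (r : ℕ) : Fitt.ideal A M r = Fitt.ideal A N r := by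
  have : Module.Finite A N := Module.Finite.equiv e
  exact le_antisymm ((Groth.Agent.S6892.result M N r).2.2 e.toLinearMap e.surjective)
    ((Groth.Agent.S6892.result N M r).2.2 e.symm.toLinearMap e.symm.surjective)

theorem fittAt_isPushout {A B A' B' : CommRingCat.{u}} {φ : A ⟶ B} {ψ : A ⟶ A'} {ψ' : B ⟶ B'}
    {φ' : A' ⟶ B'} (h : IsPushout φ ψ ψ' φ') (hf : φ.hom.Finite) (r : ℕ) :
    fittAt φ'.hom r = (fittAt φ.hom r).map ψ.hom := by
  algebraize [φ.hom, ψ.hom, ψ'.hom, φ'.hom, φ.hom.comp (RingHom.id A), φ'.hom.comp ψ.hom]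
  have : IsScalarTower A B B' := IsScalarTower.of_algebraMap_eq' (by
    change φ'.hom.comp ψ.hom = ψ'.hom.comp φ.hom
    rw [← CommRingCat.hom_comp, ← h.w, CommRingCat.hom_comp])
  have : Algebra.IsPushout A A' B B' := CommRingCat.isPushout_iff_isPushout.mp h.flip
  have e := (Algebra.IsPushout.out (R := A) (S := A') (R' := B) (S' := B')).equiv
  change Fitt.ideal A' B' r = (Fitt.ideal A B r).map (algebraMap A A')
  rw [← ideal_congr e r, Groth.Agent.S6890.result]

theorem fittAt_zero_eq_bot (φ : A →+* B) (hφ : φ.Finite) (hinj : Function.Injective φ) :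
    fittAt φ 0 = ⊥ := by
  algebraize [φ]
  refine eq_bot_iff.mpr fun a ha => ?_
  have h1 := (Groth.Agent.S6891.result (R := A) B (⊥ : Ideal A)).1 ha
  have h2 := Module.mem_annihilator.mp h1 (1 : B)
  rw [Algebra.smul_def, mul_one] at h2
  exact (Submodule.mem_bot A).mpr (hinj (h2.trans (map_zero φ).symm))

theorem fittAt_mono (φ : A →+* B) {r s : ℕ} (h : r ≤ s) : fittAt φ r ≤ fittAt φ s := by
  algebraize [φ]
  change Fitt.ideal A B r ≤ Fitt.ideal A B s
  refine Ideal.span_mono ?_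
  rintro d ⟨n, x, a, hx, ha, hd⟩
  exact ⟨n, x, a, hx, fun i hi => ha i (by omega), hd⟩

theorem exists_fittAt_eq_top (φ : A →+* B) (hφ : φ.Finite) : ∃ n, fittAt φ n = ⊤ := by
  algebraize [φ]
  obtain ⟨n, x, hx⟩ := Module.Finite.exists_fin (R := A) (M := B)
  exact ⟨n, (Groth.Agent.S6892.result B B n).1 n x hx⟩

theorem fittAt_fg (φ : A →+* B) (hφ : φ.Finite) (hfp : φ.FinitePresentation) (r : ℕ) :
    (fittAt φ r).FG := by
  algebraize [φ]
  exact (Groth.Agent.S6892.result B B r).2.1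
    (Module.FinitePresentation.of_finite_of_finitePresentation A B)

theorem rankAtStalk_of_fitting {M : Type u} [AddCommGroup M] [Module A M] [Module.Finite A M]
    [Module.Projective A M] {n : ℕ} (h1 : ∀ k < n, Fitt.ideal A M k = ⊥)
    (h2 : Fitt.ideal A M n = ⊤) (p : PrimeSpectrum A) : Module.rankAtStalk M p = n := by
  rw [Module.rankAtStalk_eq]
  change Module.finrank p.asIdeal.ResidueField (p.asIdeal.ResidueField ⊗[A] M) = n
  set κ := p.asIdeal.ResidueField
  set d := Module.finrank κ (κ ⊗[A] M) with hd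
  let b := Module.finBasis κ (κ ⊗[A] M)
  have hlt : ∀ k < d, Fitt.ideal κ (κ ⊗[A] M) k = ⊥ := by
    intro k hk
    rw [Groth.Agent.FittIdeal.ideal_eq b b.span_eq, eq_bot_iff, Groth.Agent.FittIdeal.dIdeal,
      Ideal.span_le]
    rintro _ ⟨a, ha, rfl⟩
    have hd0 : 0 < d := by omega
    have hrow := Fintype.linearIndependent_iff.mp b.linearIndependent (a ⟨0, hd0⟩)
      (ha ⟨0, hd0⟩ (by simp only; omega))
    exact (Submodule.mem_bot κ).mpr (Matrix.det_eq_zero_of_row_eq_zero ⟨0, hd0⟩ hrow)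
  have hge : Fitt.ideal κ (κ ⊗[A] M) d = ⊤ :=
    (Groth.Agent.S6892.result (κ ⊗[A] M) (κ ⊗[A] M) d).1 d b b.span_eq
  have htop : (⊤ : Ideal κ) ≠ ⊥ := top_ne_bot
  rcases lt_trichotomy d n with h | h | h
  · refine absurd ?_ htop
    rw [← hge, Groth.Agent.S6890.result (R := A) (R' := κ) M d, h1 d h, Ideal.map_bot]
  · exact h
  · refine absurd ?_ htop
    rw [← hlt n h, Groth.Agent.S6890.result (R := A) (R' := κ) M n, h2, Ideal.map_top]

end Ring

/-! ### Schemes -/

section Scheme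

variable {X Y X' Y' : Scheme.{u}}

theorem fittAt_appLE (f : X ⟶ Y) [IsFinite f] {f' : X' ⟶ Y'} {g : Y' ⟶ Y} {g' : X' ⟶ X}
    (H : IsPullback g' f' f g) {U : Y.Opens} (hU : IsAffineOpen U) {U' : Y'.Opens}
    (hU' : IsAffineOpen U') (e : U' ≤ g ⁻¹ᵁ U) (r : ℕ) :
    fittAt (f'.app U').hom r = (fittAt (f.app U).hom r).map (g.appLE U U' e).hom := by
  have hUY : f' ⁻¹ᵁ U' = g' ⁻¹ᵁ (f ⁻¹ᵁ U) ⊓ f' ⁻¹ᵁ U' := by
    refine (inf_eq_right.mpr fun x hx => ?_).symm
    change f (g' x) ∈ U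
    rw [← Scheme.Hom.comp_apply, H.w, Scheme.Hom.comp_apply]
    exact e hx
  have hiso := isIso_pushoutSection_of_isAffineOpen H e (le_refl (f ⁻¹ᵁ U)) hUY hU hU'
    (hU.preimage f)
  have h := (isIso_pushoutSection_iff H e (le_refl (f ⁻¹ᵁ U)) hUY).mp hiso
  simp only [← Scheme.Hom.app_eq_appLE] at h
  exact fittAt_isPushout h (f.finite_app U hU) r

/-- The `r`-th Fitting ideal sheaf of `f_* 𝒪_X` for a finite morphism `f`. -/
noncomputable def fittSheaf (f : X ⟶ Y) [IsFinite f] (r : ℕ) : Y.IdealSheafData where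
  ideal U := fittAt (f.app U.1).hom r
  map_ideal_basicOpen U a := by
    have hid : IsPullback (𝟙 X) f f (𝟙 Y) := IsPullback.of_id_fst
    have e : Y.basicOpen a ≤ (𝟙 Y) ⁻¹ᵁ U.1 := Y.basicOpen_le a
    have h := fittAt_appLE f hid U.2 (U' := Y.basicOpen a) (U.2.basicOpen a) e r
    have hmap : (𝟙 Y : Y ⟶ Y).appLE U.1 (Y.basicOpen a) e =
        Y.presheaf.map (homOfLE (Y.basicOpen_le a)).op := by
      rw [Scheme.Hom.appLE, Scheme.Hom.id_app]
      exact Category.id_comp _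
    rw [hmap] at h
    exact h.symm

theorem fittSheaf_ideal (f : X ⟶ Y) [IsFinite f] (r : ℕ) (U : Y.affineOpens) :
    (fittSheaf f r).ideal U = fittAt (f.app U.1).hom r := rfl

theorem exists_affine_le (g : Y' ⟶ Y) (y : Y') :
    ∃ (U : Y.affineOpens) (U' : Y'.affineOpens), y ∈ U'.1 ∧ U'.1 ≤ g ⁻¹ᵁ U.1 := by
  obtain ⟨U, hU, hy, -⟩ := exists_isAffineOpen_mem_and_subset (x := g y) (U := ⊤) (by trivial)
  obtain ⟨U', hU', hy', hle⟩ := exists_isAffineOpen_mem_and_subset (x := y) (U := g ⁻¹ᵁ U) hy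
  exact ⟨⟨U, hU⟩, ⟨U', hU'⟩, hy', hle⟩

theorem fittSheaf_comap (f : X ⟶ Y) [IsFinite f] {f' : X' ⟶ Y'} [IsFinite f'] {g : Y' ⟶ Y}
    {g' : X' ⟶ X} (H : IsPullback g' f' f g) (r : ℕ) :
    (fittSheaf f r).comap g = fittSheaf f' r := by
  choose U U' hmem hle using exists_affine_le g
  refine Scheme.IdealSheafData.ext_of_iSup_eq_top U'
    (eq_top_iff.mpr fun y _ => TopologicalSpace.Opens.mem_iSup.mpr ⟨y, hmem y⟩) fun y => ?_
  rw [Groth.Agent.IdealComap.ideal_comap _ g (U' y) (U y) (hle y), fittSheaf_ideal, fittSheaf_ideal,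
    fittAt_appLE f H (U y).2 (U' y).2 (hle y) r]

theorem fittSheaf_mono (f : X ⟶ Y) [IsFinite f] : Monotone (fittSheaf f) :=
  fun _ _ h U => fittAt_mono (f.app U.1).hom h

theorem fittSheaf_zero_eq_bot (f : X ⟶ Y) [IsFinite f] (e : Y ⟶ X) (he : e ≫ f = 𝟙 Y) :
    fittSheaf f 0 = ⊥ := by
  apply Scheme.IdealSheafData.ext
  funext U
  rw [fittSheaf_ideal, Scheme.IdealSheafData.ideal_bot, Pi.bot_apply]
  refine fittAt_zero_eq_bot _ (f.finite_app U.1 U.2) ?_
  have : IsIso (f.app U.1 ≫ e.app (f ⁻¹ᵁ U.1)) := by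
    rw [← Scheme.Hom.comp_app, Scheme.Hom.congr_app he]
    simp only [Scheme.Hom.id_app]
    erw [Category.id_comp]
    exact @Functor.map_isIso _ _ _ _ _ _ _ _ (@isIso_op _ _ _ _ _ inferInstance)
  exact Function.Injective.of_comp
    (f := (e.app (f ⁻¹ᵁ U.1)).hom) ((ConcreteCategory.bijective_of_isIso _).1 :
      Function.Injective (f.app U.1 ≫ e.app (f ⁻¹ᵁ U.1)).hom)

theorem exists_notMem_support (f : X ⟶ Y) [IsFinite f] (y : Y) :
    ∃ r, y ∉ (fittSheaf f r).support := by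
  obtain ⟨U, hU, hy, -⟩ := exists_isAffineOpen_mem_and_subset (x := y) (U := ⊤) (by trivial)
  obtain ⟨n, hn⟩ := exists_fittAt_eq_top (f.app U).hom (f.finite_app U hU)
  refine ⟨n, fun h => ?_⟩
  have h' := ((fittSheaf f n).coe_support_inter ⟨U, hU⟩).le ⟨h, hy⟩
  rw [fittSheaf_ideal, hn] at h'
  have h1 : y ∈ Y.zeroLocus (U := U) (Set.univ : Set Γ(Y, U)) := by simpa using h'.1
  rw [Scheme.zeroLocus_univ] at h1
  exact h1 hy

theorem finrank_affine (f : X ⟶ Y) [IsAffine Y] [IsFinite f] [Flat f] {n : ℕ}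
    (hp : ∀ p, f.appTop.hom.finrank p = n) (y : Y) : f.finrank y = n := by
  have : IsAffine X := isAffine_of_isAffineHom f
  have H : IsPullback X.isoSpec.hom f (Spec.map f.appTop) Y.isoSpec.hom :=
    IsPullback.of_horiz_isIso ⟨Scheme.isoSpec_hom_naturality f⟩
  have : IsFinite (Spec.map f.appTop) := (IsFinite.SpecMap_iff _).mpr f.finite_appTop
  have : Flat (Spec.map f.appTop) := Flat.SpecMap_iff.mpr f.flat_appTop
  rw [Scheme.Hom.finrank_of_isPullback _ _ _ _ H, Scheme.Hom.finrank_SpecMap_eq_finrank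
    f.finite_appTop f.flat_appTop]
  exact hp _

theorem isFinLocFreeOfDeg_affine (f : X ⟶ Y) [IsAffine Y] [IsFinite f] (n : ℕ)
    (h1 : ∀ k < n, fittAt f.appTop.hom k = ⊥) (h2 : fittAt f.appTop.hom n = ⊤) :
    Mor2.IsFinLocFreeOfDeg n f := by
  have : IsAffine X := isAffine_of_isAffineHom f
  have hfin := f.finite_appTop
  letI := f.appTop.hom.toAlgebra
  have : Module.Finite Γ(Y, ⊤) Γ(X, ⊤) := hfin
  have h1' : ∀ k < n, Fitt.ideal Γ(Y, ⊤) Γ(X, ⊤) k = ⊥ := h1
  have h2' : Fitt.ideal Γ(Y, ⊤) Γ(X, ⊤) n = ⊤ := h2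
  obtain ⟨m, x, hx⟩ := Module.Finite.exists_fin (R := Γ(Y, ⊤)) (M := Γ(X, ⊤))
  have : Module.Projective Γ(Y, ⊤) Γ(X, ⊤) :=
    Groth.Agent.HopfFF.projective_of_fitting x hx n h2' h1'
  have : Module.FinitePresentation Γ(Y, ⊤) Γ(X, ⊤) :=
    Module.finitePresentation_of_projective Γ(Y, ⊤) Γ(X, ⊤)
  have : Flat f := (HasRingHomProperty.iff_of_isAffine (P := @Flat)).mpr
    (inferInstanceAs (Module.Flat Γ(Y, ⊤) Γ(X, ⊤)))
  have : LocallyOfFinitePresentation f :=
    (HasRingHomProperty.iff_of_isAffine (P := @LocallyOfFinitePresentation)).mpr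
      (inferInstanceAs (Algebra.FinitePresentation Γ(Y, ⊤) Γ(X, ⊤)))
  refine ⟨⟨inferInstance, inferInstance, inferInstance⟩, finrank_affine f fun p => ?_⟩
  exact rankAtStalk_of_fitting h1' h2' p

theorem isFinLocFreeOfDeg_of_fittSheaf (f : X ⟶ Y) [IsFinite f] (n : ℕ)
    (h1 : ∀ k < n, fittSheaf f k = ⊥) (h2 : fittSheaf f n = ⊤) : Mor2.IsFinLocFreeOfDeg n f := by
  have key : ∀ U : Y.affineOpens, Mor2.IsFinLocFreeOfDeg n (f ∣_ U.1) := by
    intro U
    have : IsAffine (U.1 : Scheme.{u}) := U.2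
    have H := (isPullback_morphismRestrict f U.1).flip
    refine isFinLocFreeOfDeg_affine _ n (fun k hk => ?_) ?_
    · have := congrArg (fun J : Scheme.IdealSheafData _ => J.ideal ⟨⊤, isAffineOpen_top _⟩)
        (fittSheaf_comap f H k)
      simp only [h1 k hk, Scheme.IdealSheafData.comap_bot] at this
      exact this.symm
    · have := congrArg (fun J : Scheme.IdealSheafData _ => J.ideal ⟨⊤, isAffineOpen_top _⟩)
        (fittSheaf_comap f H n)
      simp only [h2, Scheme.IdealSheafData.comap_top] at this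
      exact this.symm
  have : Flat f := (IsZariskiLocalAtTarget.iff_of_iSup_eq_top (P := @Flat)
    (fun U : Y.affineOpens => U.1) (iSup_affineOpens_eq_top Y)).mpr fun U => (key U).1.2.1
  have : LocallyOfFinitePresentation f :=
    (IsZariskiLocalAtTarget.iff_of_iSup_eq_top (P := @LocallyOfFinitePresentation)
      (fun U : Y.affineOpens => U.1) (iSup_affineOpens_eq_top Y)).mpr fun U => (key U).1.2.2
  refine ⟨⟨inferInstance, inferInstance, inferInstance⟩, fun y => ?_⟩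
  obtain ⟨U, hU, hy, -⟩ := exists_isAffineOpen_mem_and_subset (x := y) (U := ⊤) (by trivial)
  rw [← (key ⟨U, hU⟩).2 ⟨y, hy⟩,
    Scheme.Hom.finrank_of_isPullback _ _ _ _ (isPullback_morphismRestrict f U).flip]
  rfl

end Scheme

end Groth.Agent.FittMor
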